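import Mathlib.CategoryTheory.Abelian.RightDerived
import Mathlib.Algebra.Homology.HomologySequence
import Mathlib.Algebra.Homology.HomologicalComplexAbelian
import Mathlib.Algebra.Homology.ExactSequence
import Mathlib.CategoryTheory.Limits.Preserves.Shapes.Biproducts

/-! Derived functors of a natural short exact sequence with a biproduct in the middle. -/

set_option autoImplicit false
set_option linter.style.haveILetI false
set_option linter.unusedSectionVars false
set_option backward.isDefEq.respectTransparency false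
set_option backward.isDefEq.respectTransparency.types false

universe w w'

open CategoryTheory CategoryTheory.Limits

noncomputable section

namespace Groth.Agent.RelMV16

variable {C : Type*} [Category.{w} C] [Abelian C] [HasInjectiveResolutions C]
  {D : Type*} [Category.{w'} D] [Abelian D]
  {F₁ F₂ F₃ F₄ : C ⥤ D} [F₁.Additive] [F₂.Additive] [F₃.Additive] [F₄.Additive]
  (α : F₁ ⟶ F₂) (β : F₁ ⟶ F₃) (γ : F₂ ⟶ F₄) (ε : F₃ ⟶ F₄)
  (w0 : ∀ J, biprod.lift (α.app J) (β.app J) ≫ biprod.desc (γ.app J) (-(ε.app J)) = 0)
  (hS : ∀ J, Injective J → (ShortComplex.mk _ _ (w0 J)).ShortExact) (X : C)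

include hS in
theorem long_exact :
    ∃ δ : ∀ n : ℕ, (F₄.rightDerived n).obj X ⟶ (F₁.rightDerived (n + 1)).obj X,
      Mono (biprod.lift ((NatTrans.rightDerived α 0).app X) ((NatTrans.rightDerived β 0).app X)) ∧
      ∀ n : ℕ,
        (ComposableArrows.mk₂
          (biprod.lift ((NatTrans.rightDerived α n).app X) ((NatTrans.rightDerived β n).app X))
          (biprod.desc ((NatTrans.rightDerived γ n).app X) (-((NatTrans.rightDerived ε n).app X)))).Exact ∧
        (ComposableArrows.mk₂
          (biprod.desc ((NatTrans.rightDerived γ n).app X) (-((NatTrans.rightDerived ε n).app X)))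
          (δ n)).Exact ∧
        (ComposableArrows.mk₂ (δ n)
          (biprod.lift ((NatTrans.rightDerived α (n + 1)).app X) ((NatTrans.rightDerived β (n + 1)).app X))).Exact := by
  let I : InjectiveResolution X := (HasInjectiveResolution.out (Z := X)).some
  let c := ComplexShape.up ℕ
  let B₁ := (F₁.mapHomologicalComplex c).obj I.cocomplex
  let B₂ := (F₂.mapHomologicalComplex c).obj I.cocomplex
  let B₃ := (F₃.mapHomologicalComplex c).obj I.cocomplex
  let B₄ := (F₄.mapHomologicalComplex c).obj I.cocomplex
  let a : B₁ ⟶ B₂ := (NatTrans.mapHomologicalComplex α c).app I.cocomplex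
  let b : B₁ ⟶ B₃ := (NatTrans.mapHomologicalComplex β c).app I.cocomplex
  let g : B₂ ⟶ B₄ := (NatTrans.mapHomologicalComplex γ c).app I.cocomplex
  let e : B₃ ⟶ B₄ := (NatTrans.mapHomologicalComplex ε c).app I.cocomplex
  have wB : biprod.lift a b ≫ biprod.desc g (-e) = 0 := by
    rw [biprod.lift_desc, Preadditive.comp_neg]
    ext i
    have h := w0 (I.cocomplex.X i)
    rw [biprod.lift_desc, Preadditive.comp_neg] at h
    simp only [HomologicalComplex.add_f_apply, HomologicalComplex.neg_f_apply, HomologicalComplex.comp_f,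
      HomologicalComplex.zero_f]
    exact h
  let S : ShortComplex (CochainComplex D ℕ) := ShortComplex.mk _ _ wB
  have hSE : S.ShortExact := by
    refine HomologicalComplex.shortExact_of_degreewise_shortExact S fun i => ?_
    let ev := HomologicalComplex.eval D c i
    haveI := preservesBinaryBiproducts_of_preservesBiproducts ev
    refine ShortComplex.shortExact_of_iso (ShortComplex.isoMk (S₁ := ShortComplex.mk _ _ (w0 (I.cocomplex.X i))) (S₂ := S.map ev) (Iso.refl _)
      (ev.mapBiprod B₂ B₃).symm (Iso.refl _) ?_ ?_)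
      (hS (I.cocomplex.X i) (I.injective i))
    · refine (cancel_mono (ev.mapBiprod B₂ B₃).hom).1 ?_
      simp only [Iso.symm_hom, Category.assoc, Iso.inv_hom_id, Category.comp_id, Functor.mapBiprod_hom]
      apply biprod.hom_ext
      · simp [S, ev, a, b, ← HomologicalComplex.comp_f]; exact (Category.comp_id _).symm
      · simp [S, ev, a, b, ← HomologicalComplex.comp_f]; exact (Category.comp_id _).symm
    · simp only [Iso.symm_hom, Functor.mapBiprod_inv]
      apply biprod.hom_ext'
      · simp [S, ev, g, e, ← HomologicalComplex.comp_f]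
      · simp [S, ev, g, e, ← HomologicalComplex.comp_f]
  let H := fun n => HomologicalComplex.homologyFunctor D c n
  have : ∀ n, PreservesBinaryBiproduct B₂ B₃ (H n) := fun n => by
    haveI := preservesBinaryBiproducts_of_preservesBiproducts (H n)
    infer_instance
  let r₁ := fun n => I.isoRightDerivedObj F₁ n
  let r₂ := fun n => I.isoRightDerivedObj F₂ n
  let r₃ := fun n => I.isoRightDerivedObj F₃ n
  let r₄ := fun n => I.isoRightDerivedObj F₄ n
  let m := fun n => (H n).mapBiprod B₂ B₃ ≪≫ biprod.mapIso (r₂ n).symm (r₃ n).symm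
  have sqL : ∀ n, HomologicalComplex.homologyMap S.f n ≫ (m n).hom =
      (r₁ n).inv ≫ biprod.lift ((NatTrans.rightDerived α n).app X) ((NatTrans.rightDerived β n).app X) := fun n => by
    rw [InjectiveResolution.rightDerived_app_eq α I n, InjectiveResolution.rightDerived_app_eq β I n]
    apply biprod.hom_ext
    · simp [m, r₁, r₂, r₃, H, S, a, b, ← HomologicalComplex.homologyMap_comp_assoc]; rfl
    · simp [m, r₁, r₂, r₃, H, S, a, b, ← HomologicalComplex.homologyMap_comp_assoc]; rfl
  have sqR : ∀ n, (m n).hom ≫ biprod.desc ((NatTrans.rightDerived γ n).app X) (-((NatTrans.rightDerived ε n).app X)) =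
      HomologicalComplex.homologyMap S.g n ≫ (r₄ n).inv := fun n => by
    rw [InjectiveResolution.rightDerived_app_eq γ I n, InjectiveResolution.rightDerived_app_eq ε I n,
      ← cancel_epi ((H n).mapBiprod B₂ B₃).inv]
    simp only [m, Iso.trans_hom, Category.assoc, Iso.inv_hom_id_assoc]
    apply biprod.hom_ext'
    · simp [m, r₂, r₃, r₄, H, S, g, e, Functor.mapBiprod_inv, ← HomologicalComplex.homologyMap_comp_assoc]; rfl
    · simp [m, r₂, r₃, r₄, H, S, g, e, Functor.mapBiprod_inv, ← HomologicalComplex.homologyMap_comp_assoc,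
        HomologicalComplex.homologyMap_neg]; rfl
  refine ⟨fun n => (r₄ n).hom ≫ hSE.δ n (n + 1) rfl ≫ (r₁ (n + 1)).inv, ?_, fun n => ⟨?_, ?_, ?_⟩⟩
  · haveI : Mono S.f := hSE.mono_f
    haveI := HomologicalComplex.mono_homologyMap_of_mono_of_not_rel S.f 0 (fun j => by simp [c])
    rw [← Iso.hom_inv_id_assoc (r₁ 0) (biprod.lift _ _), ← sqL]
    infer_instance
  · have w1 : biprod.lift ((NatTrans.rightDerived α n).app X) ((NatTrans.rightDerived β n).app X) ≫
        biprod.desc ((NatTrans.rightDerived γ n).app X) (-((NatTrans.rightDerived ε n).app X)) = 0 := by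
      rw [← cancel_epi (r₁ n).inv, ← reassoc_of% (sqL n), sqR, ← HomologicalComplex.homologyMap_comp_assoc,
        S.zero, HomologicalComplex.homologyMap_zero, zero_comp, comp_zero]
    exact (ShortComplex.exact_of_iso (S₂ := ShortComplex.mk _ _ w1)
      (ShortComplex.isoMk (r₁ n).symm (m n) (r₄ n).symm (sqL n).symm (sqR n))
      (hSE.homology_exact₂ n)).exact_toComposableArrows
  · have w2 : biprod.desc ((NatTrans.rightDerived γ n).app X) (-((NatTrans.rightDerived ε n).app X)) ≫
        (r₄ n).hom ≫ hSE.δ n (n + 1) rfl ≫ (r₁ (n + 1)).inv = 0 := by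
      rw [← cancel_epi (m n).hom, reassoc_of% (sqR n), Iso.inv_hom_id_assoc, hSE.comp_δ_assoc, zero_comp, comp_zero]
    exact (ShortComplex.exact_of_iso (S₂ := ShortComplex.mk _ _ w2)
      (ShortComplex.isoMk (m n) (r₄ n).symm (r₁ (n + 1)).symm (sqR n) (by simp))
      (hSE.homology_exact₃ n (n + 1) rfl)).exact_toComposableArrows
  · have w3 : ((r₄ n).hom ≫ hSE.δ n (n + 1) rfl ≫ (r₁ (n + 1)).inv) ≫
        biprod.lift ((NatTrans.rightDerived α (n + 1)).app X) ((NatTrans.rightDerived β (n + 1)).app X) = 0 := by
      rw [Category.assoc, Category.assoc, ← sqL, hSE.δ_comp_assoc, zero_comp, comp_zero]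
    exact (ShortComplex.exact_of_iso (S₂ := ShortComplex.mk _ _ w3)
      (ShortComplex.isoMk (r₄ n).symm (r₁ (n + 1)).symm (m (n + 1)) (by simp) (sqL (n + 1)).symm)
      (hSE.homology_exact₁ n (n + 1) rfl)).exact_toComposableArrows

end Groth.Agent.RelMV16
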