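import Groth.Prelude.Def_CohCx
import Groth.Agent.Lib.CohFound.Flasque
import Groth.Agent.Lib.CechFlasque16.Main

/-! The relative Mayer–Vietoris short exact sequence for a flasque sheaf. -/

set_option autoImplicit false
set_option linter.style.haveILetI false
set_option linter.unusedSectionVars false
set_option backward.isDefEq.respectTransparency false
set_option backward.isDefEq.respectTransparency.types false

universe u

open CategoryTheory CategoryTheory.Limits TopologicalSpace Opposite

noncomputable section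

namespace Groth.Agent.RelMV16

open Groth.Agent.CechFlasque16

variable {X Y : TopCat.{u}} (f : X ⟶ Y) (U V : Opens X)

/-- The part of a preimage inside an open. -/
abbrev part (W : Opens Y) : Opens X :=
  U.isOpenEmbedding.functor.obj ((Opens.map (CohCx.incl U ≫ f)).obj W)

theorem mem_part {W : Opens Y} {x : X} : x ∈ part f U W ↔ x ∈ U ∧ f x ∈ W := by
  constructor
  · rintro ⟨y, hy, rfl⟩; exact ⟨y.2, hy⟩
  · rintro ⟨hxU, hx⟩; exact ⟨⟨x, hxU⟩, hx, rfl⟩

theorem part_le (W : Opens Y) : part f U W ≤ (Opens.map f).obj W := fun _ hx => ((mem_part f U).1 hx).2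

theorem part_mono {U' : Opens X} (h : U' ≤ U) (W : Opens Y) : part f U' W ≤ part f U W := fun _ hx =>
  (mem_part f U).2 ⟨h ((mem_part f U').1 hx).1, ((mem_part f U').1 hx).2⟩

theorem part_natural {W W' : Opens Y} (h : W' ≤ W) : part f U W' ≤ part f U W := fun _ hx =>
  (mem_part f U).2 ⟨((mem_part f U).1 hx).1, h ((mem_part f U).1 hx).2⟩

theorem preim_natural {W W' : Opens Y} (h : W' ≤ W) : (Opens.map f).obj W' ≤ (Opens.map f).obj W :=
  fun _ hx => h hx

theorem cover (hUV : U ⊔ V = ⊤) (W : Opens Y) : (Opens.map f).obj W ≤ part f U W ⊔ part f V W := fun x hx => by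
  rcases (show x ∈ U ⊔ V by rw [hUV]; trivial) with h | h
  · exact Or.inl ((mem_part f U).2 ⟨h, hx⟩)
  · exact Or.inr ((mem_part f V).2 ⟨h, hx⟩)

theorem overlap (W : Opens Y) : part f U W ⊓ part f V W ≤ part f (U ⊓ V) W := fun _ hx =>
  (mem_part f _).2 ⟨⟨((mem_part f U).1 hx.1).1, ((mem_part f V).1 hx.2).1⟩, ((mem_part f U).1 hx.1).2⟩

variable (F : CohTop.Ab X)

/-- The sheaf `a_*(F|_U)`. -/
abbrev A : CohTop.Ab Y := (CohTop.restrFunctor U ⋙ CohTop.push (CohCx.incl U ≫ f)).obj F

theorem existsUnique_glue₂ (hUV : U ⊔ V = ⊤) (W : Opens Y) (s : F.obj.obj (op (part f U W)))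
    (t : F.obj.obj (op (part f V W)))
    (hst : res F.obj (part_mono f U inf_le_left W : part f (U ⊓ V) W ≤ part f U W) s =
      res F.obj (part_mono f V inf_le_right W : part f (U ⊓ V) W ≤ part f V W) t) :
    ∃! x : F.obj.obj (op ((Opens.map f).obj W)),
      res F.obj (part_le f U W) x = s ∧ res F.obj (part_le f V W) x = t := by
  let O : ULift.{u} Bool → Opens X := fun b => bif b.down then part f U W else part f V W
  let sf : ∀ b, F.obj.obj (op (O b)) := fun b => match b with
    | ⟨true⟩ => s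
    | ⟨false⟩ => t
  have hle : ∀ b, O b ≤ (Opens.map f).obj W := by
    rintro ⟨_ | _⟩
    exacts [part_le f V W, part_le f U W]
  have hov : res F.obj (inf_le_left : part f U W ⊓ part f V W ≤ part f U W) s =
      res F.obj (inf_le_right : part f U W ⊓ part f V W ≤ part f V W) t := by
    have h := congrArg (res F.obj (overlap f U V W)) hst
    rwa [res_res, res_res] at h
  obtain ⟨x, hx, hu⟩ := TopCat.Sheaf.existsUnique_gluing' F O ((Opens.map f).obj W) (fun b => homOfLE (hle b))
    (fun y hy => by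
      rcases cover f U V hUV W hy with h | h
      · exact Opens.mem_iSup.2 ⟨⟨true⟩, h⟩
      · exact Opens.mem_iSup.2 ⟨⟨false⟩, h⟩)
    sf (by
      intro i j
      match i, j with
      | ⟨true⟩, ⟨true⟩ => rfl
      | ⟨false⟩, ⟨false⟩ => rfl
      | ⟨true⟩, ⟨false⟩ => exact hov
      | ⟨false⟩, ⟨true⟩ =>
        have h := congrArg (res F.obj (inf_comm _ _).le : _ →+ F.obj.obj (op (part f V W ⊓ part f U W))) hov
        rw [res_res, res_res] at h
        exact h.symm)
  refine ⟨x, ⟨hx ⟨true⟩, hx ⟨false⟩⟩, fun y hy => hu y fun b => ?_⟩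
  match b with
  | ⟨true⟩ => exact hy.1
  | ⟨false⟩ => exact hy.2

/-- The comparison into the two parts. -/
abbrev toTwo : (CohTop.push f).obj F ⟶ A f U F ⊞ A f V F :=
  biprod.lift ((CohCx.pushToRestrPush f U).app F) ((CohCx.pushToRestrPush f V).app F)

/-- The difference on the overlap. -/
abbrev diff : A f U F ⊞ A f V F ⟶ A f (U ⊓ V) F :=
  biprod.desc ((CohCx.restrPushToRestrPush f (inf_le_left : U ⊓ V ≤ U)).app F)
    (-((CohCx.restrPushToRestrPush f (inf_le_right : U ⊓ V ≤ V)).app F))

theorem zero' : toTwo f U V F ≫ diff f U V F = 0 := by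
  rw [biprod.lift_desc, Preadditive.comp_neg, add_neg_eq_zero]
  apply Sheaf.hom_ext
  ext W : 2
  show F.obj.map _ ≫ F.obj.map _ = F.obj.map _ ≫ F.obj.map _
  rw [← F.obj.map_comp, ← F.obj.map_comp]
  rfl

theorem shortExact (hUV : U ⊔ V = ⊤) (hF : TopCat.Sheaf.IsFlasque F) :
    (ShortComplex.mk (toTwo f U V F) (diff f U V F) (zero' f U V F)).ShortExact := by
  classical
  let rU := (CohCx.restrPushToRestrPush f (inf_le_left : U ⊓ V ≤ U)).app F
  let rV := (CohCx.restrPushToRestrPush f (inf_le_right : U ⊓ V ≤ V)).app F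
  have hlift : ∀ {T : CohTop.Ab Y} (k : T ⟶ A f U F ⊞ A f V F), k ≫ diff f U V F = 0 →
      ∃! l : T ⟶ (CohTop.push f).obj F, l ≫ toTwo f U V F = k := by
    intro T k hk
    let k₁ := k ≫ biprod.fst
    let k₂ := k ≫ biprod.snd
    have hk' : k₁ ≫ rU = k₂ ≫ rV := by
      rw [← sub_eq_zero, ← hk, diff, biprod.desc_eq, Preadditive.comp_add]
      simp [k₁, k₂, rU, rV, sub_eq_add_neg]
    have hW : ∀ (W : (Opens Y)ᵒᵖ) (z : T.obj.obj W), ∃! x : F.obj.obj (op ((Opens.map f).obj W.unop)),
        res F.obj (part_le f U W.unop) x = k₁.hom.app W z ∧ res F.obj (part_le f V W.unop) x = k₂.hom.app W z :=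
      fun W z => existsUnique_glue₂ f U V F hUV W.unop _ _
        (congrArg (fun q : T ⟶ A f (U ⊓ V) F => q.hom.app W z) hk')
    let ap : ∀ W : (Opens Y)ᵒᵖ, T.obj.obj W ⟶ ((CohTop.push f).obj F).obj.obj W := fun W =>
      AddCommGrpCat.ofHom (AddMonoidHom.mk' (fun z => (hW W z).choose) fun z z' => by
        refine ((hW W (z + z')).choose_spec.2 _ ⟨?_, ?_⟩).symm
        · refine (map_add _ _ _).trans ?_
          rw [(hW W z).choose_spec.1.1, (hW W z').choose_spec.1.1]
          exact (map_add (k₁.hom.app W).hom z z').symm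
        · refine (map_add _ _ _).trans ?_
          rw [(hW W z).choose_spec.1.2, (hW W z').choose_spec.1.2]
          exact (map_add (k₂.hom.app W).hom z z').symm)
    have nat : ∀ ⦃W W' : (Opens Y)ᵒᵖ⦄ (a : W ⟶ W'),
        T.obj.map a ≫ ap W' = ap W ≫ ((CohTop.push f).obj F).obj.map a := fun W W' a => by
      ext z
      show (hW W' (T.obj.map a z)).choose = res F.obj (preim_natural f a.unop.le) (hW W z).choose
      refine ((hW W' _).choose_spec.2 _ ⟨?_, ?_⟩).symm
      · refine ((res_res F.obj (preim_natural f a.unop.le) (part_le f U W'.unop) _).trans ?_)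
        refine Eq.trans ?_ (NatTrans.naturality_apply k₁.hom a z).symm
        refine Eq.trans ?_ (congrArg (res F.obj (part_natural f U a.unop.le)) (hW W z).choose_spec.1.1)
        rw [res_res]
      · refine ((res_res F.obj (preim_natural f a.unop.le) (part_le f V W'.unop) _).trans ?_)
        refine Eq.trans ?_ (NatTrans.naturality_apply k₂.hom a z).symm
        refine Eq.trans ?_ (congrArg (res F.obj (part_natural f V a.unop.le)) (hW W z).choose_spec.1.2)
        rw [res_res]
    let l : T ⟶ (CohTop.push f).obj F := ⟨{ app := ap, naturality := nat }⟩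
    refine ⟨l, biprod.hom_ext _ _ ?_ ?_, fun l' hl' => ?_⟩
    · rw [Category.assoc, biprod.lift_fst]
      apply Sheaf.hom_ext
      ext W z
      exact (hW W z).choose_spec.1.1
    · rw [Category.assoc, biprod.lift_snd]
      apply Sheaf.hom_ext
      ext W z
      exact (hW W z).choose_spec.1.2
    · apply Sheaf.hom_ext
      ext W z
      refine (hW W z).choose_spec.2 _ ⟨?_, ?_⟩
      · have h := congrArg (fun q : T ⟶ A f U F ⊞ A f V F => ((q ≫ biprod.fst : T ⟶ A f U F)).hom.app W z) hl'
        simp only [Category.assoc, toTwo, biprod.lift_fst] at h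
        exact h
      · have h := congrArg (fun q : T ⟶ A f U F ⊞ A f V F => ((q ≫ biprod.snd : T ⟶ A f V F)).hom.app W z) hl'
        simp only [Category.assoc, toTwo, biprod.lift_snd] at h
        exact h
  have hm : Mono (toTwo f U V F) := Preadditive.mono_of_cancel_zero _ fun {T} g hg => by
    obtain ⟨l, -, hu⟩ := hlift (0 : T ⟶ _) zero_comp
    exact (hu g hg).trans (hu 0 zero_comp).symm
  have he : Epi (diff f U V F) := by
    haveI : Epi rU := by
      rw [← TopCat.Sheaf.isLocallySurjective_iff_epi, TopCat.Presheaf.isLocallySurjective_iff]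
      intro W s x hx
      obtain ⟨t, ht⟩ := Groth.Agent.CohFound.flasque_surjective F (part_mono f U inf_le_left W) s
      exact ⟨W, le_rfl, ⟨t, ht.trans (ConcreteCategory.congr_hom ((A f (U ⊓ V) F).obj.map_id (op W)) s).symm⟩, hx⟩
    exact epi_of_epi_fac (biprod.inl_desc rU (-rV))
  refine ShortComplex.ShortExact.mk ?_
  refine ShortComplex.exact_of_f_is_kernel _ (KernelFork.IsLimit.ofι' _ _ fun {T} k hk => ?_)
  exact ⟨(hlift k hk).choose, (hlift k hk).choose_spec.1⟩

end Groth.Agent.RelMV16
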